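import Groth.Agent.ThickPCLib.Step
import Groth.Agent.BaseAmpLib.Stalk
import Groth.Agent.TorLocLib.Restr

/-!
# Perfection relative to the base descends along finite order thickenings of the base
-/

set_option autoImplicit false
set_option linter.style.haveILetI false
set_option backward.isDefEq.respectTransparency false
set_option backward.isDefEq.respectTransparency.types false
set_option maxHeartbeats 1000000

noncomputable section

universe u

open CategoryTheory CategoryTheory.Limits AlgebraicGeometry TopologicalSpace HomologicalComplex MonoidalCategory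
open scoped TensorProduct
open Groth.Agent
open Groth.Agent.TwoTermLib.RelAmp (resCx)
attribute [local instance] HasDerivedCategory.standard

namespace ThickPCLib

section Ring

variable {A B A' B' : Type u} [CommRing A] [CommRing B] [CommRing A'] [CommRing B']

/-- Restriction along a flat map preserves K-flatness. -/
theorem isKFlat_resCx (φ : A →+* B) (hφ : φ.Flat) {P : CochainComplex (ModuleCat.{u} B) ℤ}
    (hP : DRing.IsKFlat B P) : DRing.IsKFlat A ((resCx φ).obj P) := by
  intro L hL n
  rw [TwoTermLib.RelAmp.isZero_tensor_res_iff]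
  have hL' : ∀ j, IsZero (((DRingLib.extCx φ).obj L).homology j) := fun j => by
    obtain ⟨e⟩ := DRingLib.exists_homology_extCx_iso φ hφ L j
    exact ((ModuleCat.extendScalars.{u, u, u} φ).map_isZero (hL j)).of_iso e
  exact (hP _ hL' n).of_iso
    ((homologyFunctor _ _ n).mapIso (KFlatLib.tensorFlipIso P ((DRingLib.extCx φ).obj L)).symm)

variable (φ' : A' →+* B') (ι : A' →+* A) (κ : B' →+* B) (φ : A →+* B) (w : κ.comp φ' = φ.comp ι)

/-- Tor amplitude over the base is detected modulo a nilpotent ideal. -/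
theorem amp_of_nilpotent (hsq : TorLocLib.IsPushSq φ' ι κ φ w) (hφ' : φ'.Flat) (hφ : φ.Flat)
    (hι : Function.Surjective ι) (hnil : IsNilpotent (RingHom.ker ι))
    {C : CochainComplex (ModuleCat.{u} B') ℤ} (hC : DRing.IsKFlat B' C) (hflat : ∀ n, Module.Flat B' (C.X n))
    {a b : ℤ} (h : DRing.HasTorAmplitudeIn A a b (DerivedCategory.Q.obj ((resCx φ).obj ((DRingLib.extCx κ).obj C)))) :
    DRing.HasTorAmplitudeIn A' a b (DerivedCategory.Q.obj ((resCx φ').obj C)) := by
  let D := (DRingLib.extCx ι).obj ((resCx φ').obj C)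
  let e : D ≅ (resCx φ).obj ((DRingLib.extCx κ).obj C) := TorLocLib.sqCxIso φ' ι κ φ w hsq C
  have hflat' : ∀ n, Module.Flat A' (((resCx φ').obj C).X n) := fun n =>
    TorLocLib.flat_restrictScalars φ' hφ' (C.X n) (hflat n)
  have hD : DRing.IsKFlat A D := KFlatLib.isKFlat_ring_of_iso e.symm
    (isKFlat_resCx φ hφ (KFlatLib.isKFlat_extend κ hC))
  have hamp := (DRingLib.hasTorAmplitudeIn_iff_amp hD (Iso.refl _)).1
    (DRingLib.hasTorAmplitudeIn_of_iso (DerivedCategory.Q.mapIso e.symm) h)
  exact DRingLib.hasTorAmplitudeIn_of_amp (isKFlat_resCx φ' hφ' hC) (Iso.refl _) fun N i hi =>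
    TwoTermLib.Nil.isZero_tensorN_of_extCx ι hι hnil _ hflat' i (fun M => hamp M i hi) N

end Ring

variable {X Y X' Y' : Scheme.{u}} {f : X ⟶ Y} {f' : X' ⟶ Y'} {i : X ⟶ X'} {j : Y ⟶ Y'}
  (sq : IsPullback i f f' j)

section

variable [IsClosedImmersion j]

theorem surjective_baseMap (x : X) : Function.Surjective (BaseAmpLib.baseMap sq x) := by
  have e : j.base (f.base x) = f'.base (i.base x) := (congrArg (fun k : X ⟶ Y' => k.base x) sq.w).symm
  have key : ∀ (y : Y') (h : j.base (f.base x) ⤳ y), j.base (f.base x) = y →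
      Function.Surjective (Y'.presheaf.stalkSpecializes h ≫ j.stalkMap (f.base x)).hom := by
    rintro y h rfl
    rw [Y'.presheaf.stalkSpecializes_refl, Category.id_comp]
    exact stalkMap_surjective' j (f.base x)
  exact key _ _ e

theorem isNilpotent_ker_baseMap (hj : IsNilpotent j.ker) (x : X) :
    IsNilpotent (RingHom.ker (BaseAmpLib.baseMap sq x)) := by
  have e : j.base (f.base x) = f'.base (i.base x) := (congrArg (fun k : X ⟶ Y' => k.base x) sq.w).symm
  have key : ∀ (y : Y') (h : j.base (f.base x) ⤳ y), j.base (f.base x) = y →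
      IsNilpotent (RingHom.ker (Y'.presheaf.stalkSpecializes h ≫ j.stalkMap (f.base x)).hom) := by
    rintro y h rfl
    rw [Y'.presheaf.stalkSpecializes_refl, Category.id_comp]
    exact isNilpotent_ker_stalkMap j hj (f.base x)
  exact key _ _ e

variable [IsClosedImmersion i]

theorem bijective_stalkLift (x : X) : Function.Bijective (BaseAmpLib.stalkLift sq x) := by
  letI := (f'.stalkMap (i.base x)).hom.toAlgebra
  letI := (BaseAmpLib.baseMap sq x).toAlgebra
  let A' := Y'.presheaf.stalk (f'.base (i.base x))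
  let A := Y.presheaf.stalk (f.base x)
  let B' := X'.presheaf.stalk (i.base x)
  let B := X.presheaf.stalk x
  let q := BaseAmpLib.stalkLift sq x
  have hq : Function.Surjective q := fun z => by
    obtain ⟨b', hb'⟩ := stalkMap_surjective' i x z
    refine ⟨(1 : A) ⊗ₜ[A'] b', ?_⟩
    rw [BaseAmpLib.stalkLift_tmul, map_one, one_mul]
    exact hb'
  let p : B' →+* A ⊗[A'] B' := (Algebra.TensorProduct.includeRight : B' →ₐ[A'] A ⊗[A'] B').toRingHom
  have hp : Function.Surjective p := fun z => TensorProduct.mk_surjective A' B' A (surjective_baseMap sq x) z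
  haveI : Nontrivial (A ⊗[A'] B') := q.domain_nontrivial
  haveI : IsLocalRing (A ⊗[A'] B') := IsLocalRing.of_surjective' p hp
  letI : Algebra (A ⊗[A'] B') B := q.toAlgebra
  haveI : IsLocalHom (algebraMap (A ⊗[A'] B') B) := IsLocalHom.of_surjective q hq
  haveI : Module.Flat (A ⊗[A'] B') B := BaseAmpLib.flat_stalkLift sq x
  haveI : Module.FaithfullyFlat (A ⊗[A'] B') B := Module.FaithfullyFlat.of_flat_of_isLocalHom
  exact ⟨FaithfulSMul.algebraMap_injective (A ⊗[A'] B') B, hq⟩

omit [IsClosedImmersion j] [IsClosedImmersion i] in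
theorem stalk_comm (x : X) :
    (i.stalkMap x).hom.comp (f'.stalkMap (i.base x)).hom = (f.stalkMap x).hom.comp (BaseAmpLib.baseMap sq x) :=
  (BaseAmpLib.baseMap_comm sq x).symm

theorem isPushSq_stalk (x : X) : TorLocLib.IsPushSq (f'.stalkMap (i.base x)).hom (BaseAmpLib.baseMap sq x)
    (i.stalkMap x).hom (f.stalkMap x).hom (stalk_comm sq x) :=
  BaseAmpLib.isPushSq_of_equiv _ _ _ _ _
    (letI := (f'.stalkMap (i.base x)).hom.toAlgebra
     letI := (BaseAmpLib.baseMap sq x).toAlgebra
     (RingEquiv.ofBijective _ (bijective_stalkLift sq x)).toAddEquiv)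
    (BaseAmpLib.stalkLift_tmul sq x)

include sq in
theorem isNilpotent_ker_of_base (hj : IsNilpotent j.ker) (x : X) :
    IsNilpotent (RingHom.ker (i.stalkMap x).hom) := by
  letI := (f'.stalkMap (i.base x)).hom.toAlgebra
  letI := (BaseAmpLib.baseMap sq x).toAlgebra
  obtain ⟨k, hk⟩ := isNilpotent_ker_baseMap sq hj x
  refine ⟨k, ?_⟩
  have hle : RingHom.ker (i.stalkMap x).hom ≤
      (RingHom.ker (BaseAmpLib.baseMap sq x)).map (f'.stalkMap (i.base x)).hom := by
    intro b hb
    have h1 : (1 : Y.presheaf.stalk (f.base x)) ⊗ₜ[Y'.presheaf.stalk (f'.base (i.base x))] b = 0 := by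
      refine (bijective_stalkLift sq x).1 ?_
      rw [BaseAmpLib.stalkLift_tmul, map_one, one_mul, map_zero]
      exact hb
    have h2 := mem_smul_of_one_tmul _ (surjective_baseMap sq x) _ b h1
    rw [Ideal.smul_top_eq_map] at h2
    exact h2
  refine le_bot_iff.1 ((Ideal.pow_right_mono hle k).trans ?_)
  rw [← Ideal.map_pow, hk, Ideal.zero_eq_bot, Ideal.map_bot]

end

/-- Perfection relative to the base descends along a finite order thickening of the base. -/
theorem relPerfect_of_lpull [Flat f'] (hj : MoreMor.IsFiniteOrderThickening j) [DCoh.HasLpull i]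
    (sq : IsPullback i f f' j) (E : DCoh.D X') (F : CochainComplex X.Modules ℤ)
    (eF : DCoh.toD X F ≅ (DCoh.Lpull i).obj E) (hpc : ∀ m : ℤ, DCoh.IsPseudoCoherentD m (DCoh.toD X F))
    (hamp : DerSch.LocFiniteTorAmplitude f F) :
    (∀ m : ℤ, DCoh.IsPseudoCoherentD m E) ∧ DerSch.LocFiniteTorAmplitudeD f' E := by
  obtain ⟨⟨hjc, hjs⟩, hjn⟩ := hj
  haveI := hjc
  haveI := hjs
  haveI : IsClosedImmersion i := MorphismProperty.of_isPullback sq.flip hjc
  haveI : Surjective i := MorphismProperty.of_isPullback sq.flip hjs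
  haveI : Flat f := MorphismProperty.of_isPullback sq ‹Flat f'›
  refine ⟨fun m => isPC_of_lpull i (isNilpotent_ker_of_base sq hjn) E
    (fun k => PerfLib.isPC_of_iso eF (hpc k)) m, fun G ⟨eG⟩ x' => ?_⟩
  obtain ⟨x, rfl⟩ := i.surjective x'
  obtain ⟨V, a, b, hxV, hV⟩ := hamp x
  obtain ⟨V', rfl⟩ := exists_preimage i V
  refine ⟨V', a, b, hxV, fun z hz => ?_⟩
  obtain ⟨y, rfl⟩ := i.surjective z
  obtain ⟨P, hP, ⟨eP⟩⟩ := KFlatLib.exists_good_rep E
  refine RelFlatLib.ampAt_of_iso f' (eP ≪≫ eG.symm) ?_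
  have h1 := RelFlatLib.ampAt_of_iso f
    (eF ≪≫ (DCoh.Lpull i).mapIso eP.symm ≪≫ KFlatLib.lpullObjIso i P hP.1) (hV y hz)
  exact amp_of_nilpotent (f'.stalkMap (i.base y)).hom (BaseAmpLib.baseMap sq y) (i.stalkMap y).hom
    (f.stalkMap y).hom (stalk_comm sq y) (isPushSq_stalk sq y) (Flat.stalkMap f' (i.base y)) (Flat.stalkMap f y)
    (surjective_baseMap sq y) (isNilpotent_ker_baseMap sq hjn y)
    (KFlatLib.stalks_isKFlat hP.1 (i y)) (fun n => hP.2 n (i y))
    (DRingLib.hasTorAmplitudeIn_of_iso (DerivedCategory.Q.mapIso (RelFlatLib.stalkOverPullIso i f y P)) h1)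

end ThickPCLib
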