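import Groth.Agent.ThickPCLib.Ring
import Groth.Agent.KFlatLib.PCohPull
import Groth.Agent.KFlatLib.TorAmpMore
import Groth.Agent.RelFlatLib.SpreadIso
import Groth.Agent.RelPCSchLib.Devissage
import Groth.Agent.MiscFlat6.FreeStalks
import Groth.Agent.PerfLib.LocalLift
import Groth.Prelude.Def_MoreMor

/-!
# Pseudo-coherence descends along thickenings with nilpotent stalk kernels
-/

set_option autoImplicit false
set_option linter.style.haveILetI false
set_option backward.isDefEq.respectTransparency false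
set_option backward.isDefEq.respectTransparency.types false
set_option maxHeartbeats 1000000

noncomputable section

universe u

open CategoryTheory CategoryTheory.Limits CategoryTheory.Pretriangulated AlgebraicGeometry TopologicalSpace Opposite
open Groth.Agent ProjFormLib
attribute [local instance] HasDerivedCategory.standard

namespace ThickPCLib

variable {X X' : Scheme.{u}} (i : X ⟶ X') [IsClosedImmersion i]

theorem exists_preimage (U : X.Opens) : ∃ U' : X'.Opens, i ⁻¹ᵁ U' = U := by
  obtain ⟨t, ht, hUt⟩ := i.isClosedEmbedding.isInducing.isOpen_iff.1 U.2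
  exact ⟨⟨t, ht⟩, Opens.ext hUt⟩

theorem stalkMap_surjective' (x : X) : Function.Surjective (i.stalkMap x).hom :=
  i.stalkMap_surjective x

/-- The kernels on stalks of a finite order thickening are nilpotent. -/
theorem isNilpotent_ker_stalkMap (hi : IsNilpotent i.ker) (x : X) :
    IsNilpotent (RingHom.ker (i.stalkMap x).hom) := by
  obtain ⟨n, hn⟩ := hi
  refine ⟨n, ?_⟩
  have key : ∀ k : ℕ, ∀ a ∈ RingHom.ker (i.stalkMap x).hom ^ k, ∃ (U : X'.affineOpens) (hU : i x ∈ (U : X'.Opens))
      (s : Γ(X', U)), s ∈ (i.ker.ideal U) ^ k ∧ X'.presheaf.germ U (i x) hU s = a := by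
    intro k
    induction k with
    | zero =>
      intro a _
      obtain ⟨U₀, hxU₀, s, rfl⟩ := X'.presheaf.exists_germ_eq (x := i x) a
      obtain ⟨U, hU, hxU, hUU⟩ := exists_isAffineOpen_mem_and_subset (x := i x) (U := U₀) hxU₀
      refine ⟨⟨U, hU⟩, hxU, X'.presheaf.map (homOfLE hUU).op s, ?_, TopCat.Presheaf.germ_res_apply _ _ _ _ _⟩
      simp
    | succ k ih =>
      intro a ha
      rw [pow_succ] at ha
      refine Submodule.mul_induction_on ha (fun c hc d hd => ?_) (fun c d hc hd => ?_)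
      · obtain ⟨U, hxU, s, hs, rfl⟩ := ih c hc
        obtain ⟨U₀, hxU₀, t, rfl⟩ := X'.presheaf.exists_germ_eq (x := i x) d
        have h0 : X.presheaf.germ (i ⁻¹ᵁ U₀) x hxU₀ (i.app U₀ t) = X.presheaf.germ (i ⁻¹ᵁ U₀) x hxU₀ 0 := by
          rw [map_zero]
          exact (Scheme.Hom.germ_stalkMap_apply i U₀ x hxU₀ t).symm.trans hd
        obtain ⟨W, hxW, k₁, k₂, hW⟩ := X.presheaf.germ_eq x hxU₀ hxU₀ _ _ h0
        obtain ⟨W', rfl⟩ := exists_preimage i W
        obtain ⟨V, hV, hxV, hVW⟩ := exists_isAffineOpen_mem_and_subset (x := i x)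
          (U := U₀ ⊓ W' ⊓ (U : X'.Opens)) ⟨⟨hxU₀, hxW⟩, hxU⟩
        have hVU₀ : V ≤ U₀ := fun y hy => (hVW hy).1.1
        have hVW' : V ≤ W' := fun y hy => (hVW hy).1.2
        have hVU : V ≤ (U : X'.Opens) := fun y hy => (hVW hy).2
        refine ⟨⟨V, hV⟩, hxV, X'.presheaf.map (homOfLE hVU).op s * X'.presheaf.map (homOfLE hVU₀).op t, ?_, ?_⟩
        · rw [pow_succ]
          refine Ideal.mul_mem_mul ?_ ?_
          · have := Ideal.mem_map_of_mem (X'.presheaf.map (homOfLE hVU).op).hom hs
            rw [Ideal.map_pow] at this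
            exact (congrArg (· ^ _) (i.ker.map_ideal (U := ⟨V, hV⟩) (V := U) hVU)) ▸ this
          · rw [Scheme.Hom.ker_apply, RingHom.mem_ker]
            have e1 : (i.app V).hom (X'.presheaf.map (homOfLE hVU₀).op t) =
                X.presheaf.map ((Opens.map i.base).map (homOfLE hVU₀)).op (i.app U₀ t) :=
              ConcreteCategory.congr_hom (i.naturality (homOfLE hVU₀).op) t
            refine e1.trans ?_
            have e2 := congrArg (X.presheaf.map ((Opens.map i.base).map (homOfLE hVW')).op) hW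
            simp only [map_zero] at e2
            rw [← CommRingCat.comp_apply, ← Functor.map_comp] at e2
            exact e2
        · rw [map_mul, TopCat.Presheaf.germ_res_apply, TopCat.Presheaf.germ_res_apply]
      · obtain ⟨U₁, h₁, s, hs, rfl⟩ := hc
        obtain ⟨U₂, h₂, t, ht, rfl⟩ := hd
        obtain ⟨V, hV, hxV, hVW⟩ := exists_isAffineOpen_mem_and_subset (x := i x)
          (U := (U₁ : X'.Opens) ⊓ U₂) ⟨h₁, h₂⟩
        have hV₁ : V ≤ (U₁ : X'.Opens) := fun y hy => (hVW hy).1
        have hV₂ : V ≤ (U₂ : X'.Opens) := fun y hy => (hVW hy).2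
        refine ⟨⟨V, hV⟩, hxV, X'.presheaf.map (homOfLE hV₁).op s + X'.presheaf.map (homOfLE hV₂).op t,
          Ideal.add_mem _ ?_ ?_, by rw [map_add, TopCat.Presheaf.germ_res_apply, TopCat.Presheaf.germ_res_apply]⟩
        · have := Ideal.mem_map_of_mem (X'.presheaf.map (homOfLE hV₁).op).hom hs
          rw [Ideal.map_pow] at this
          exact (congrArg (· ^ _) (i.ker.map_ideal (U := ⟨V, hV⟩) (V := U₁) hV₁)) ▸ this
        · have := Ideal.mem_map_of_mem (X'.presheaf.map (homOfLE hV₂).op).hom ht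
          rw [Ideal.map_pow] at this
          exact (congrArg (· ^ _) (i.ker.map_ideal (U := ⟨V, hV⟩) (V := U₂) hV₂)) ▸ this
  refine (Submodule.eq_bot_iff _).2 fun a ha => ?_
  obtain ⟨U, hU, s, hs, rfl⟩ := key n a ha
  have h0 : (i.ker.ideal U) ^ n = ⊥ := by
    rw [← Pi.pow_apply, ← Scheme.IdealSheafData.ideal_pow, hn]
    rfl
  rw [h0, Ideal.mem_bot] at hs
  rw [hs, map_zero]

variable (hn : ∀ x : X, IsNilpotent (RingHom.ker (i.stalkMap x).hom))

include hn in
/-- Finite type descends. -/
theorem isFT_of_pullback [Surjective i] (H : X'.Modules)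
    (h : CohB1.IsFT ((Scheme.Modules.pullback i).obj H)) : CohB1.IsFT H := by
  classical
  refine PerfLib.isFT_of_local fun x' => ?_
  obtain ⟨x, rfl⟩ := i.surjective x'
  -- the stalk at the point is finite
  obtain ⟨U₁, k₁, e₁, hxU₁, -, he₁⟩ := MiscFlat6.exists_spanning_nhd h x
  have hfinB := MiscFlat6.finite_stalk (he₁ x hxU₁)
  haveI : Module.Finite (X'.presheaf.stalk (i x)) ((DerSch.stalkFunctor X' (i x)).obj H) :=
    finite_of_extend _ (stalkMap_surjective' i x) (hn x) _
      (@Module.Finite.equiv _ _ _ _ _ _ _ _ hfinB ((KFlatLib.stalkPullIso i x).app H).toLinearEquiv)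
  obtain ⟨n, a, ha⟩ := Module.Finite.exists_fin (R := X'.presheaf.stalk (i x))
    (M := (DerSch.stalkFunctor X' (i x)).obj H)
  choose W hxW t ht using fun j => exists_ger H (i x) (a j)
  let U' : X'.Opens := Finset.univ.inf W
  have hxU' : i x ∈ U' := Finset.inf_induction (p := fun T : X'.Opens => i x ∈ T) trivial
    (fun _ h₁ _ h₂ => ⟨h₁, h₂⟩) fun j _ => hxW j
  have hle : ∀ j, U' ≤ W j := fun j => Finset.inf_le (Finset.mem_univ j)
  let ψ : (∐ fun _ : Fin n => KFlatLib.freeU U') ⟶ H :=
    Sigma.desc fun j => KFlatLib.secMap (ProjFormLib.res H (hle j) (t j))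
  let π := cokernel.π ψ
  have hQx : IsZero ((DerSch.stalkFunctor X' (i x)).obj (cokernel ψ)) := by
    haveI : Epi ((DerSch.stalkFunctor X' (i x)).map π) := inferInstance
    let l := ((DerSch.stalkFunctor X' (i x)).map π).hom
    have hl : Function.Surjective l :=
      (ModuleCat.epi_iff_surjective ((DerSch.stalkFunctor X' (i x)).map π)).1 inferInstance
    have hgen : ∀ j, l (a j) = 0 := fun j => by
      rw [← ht j, ← ger_res H (hle j) (i x) hxU' (t j)]
      refine (DerSch.stalkFunctor_map_germ (i x) π U' hxU' _).trans ?_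
      have h1 : π.app U' (ProjFormLib.res H (hle j) (t j)) = 0 := by
        have hz : KFlatLib.secMap (ProjFormLib.res H (hle j) (t j)) ≫ π = 0 := by
          have hψ : Sigma.ι (fun _ : Fin n => KFlatLib.freeU U') j ≫ ψ =
              KFlatLib.secMap (ProjFormLib.res H (hle j) (t j)) := Limits.Sigma.ι_desc _ _
          rw [← hψ, Category.assoc, cokernel.condition, comp_zero]
        rw [KFlatLib.secMap_comp] at hz
        have := KFlatLib.secMap_gen (π.app U' (ProjFormLib.res H (hle j) (t j)))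
        rw [hz] at this
        exact this.symm
      rw [h1]
      exact map_zero _
    have hl0 : ∀ v, l v = 0 := fun v => by
      have hv : v ∈ Submodule.span _ (Set.range a) := ha.symm ▸ Submodule.mem_top
      induction hv using Submodule.span_induction with
      | mem w hw => obtain ⟨j, rfl⟩ := hw; exact hgen j
      | zero => exact map_zero l
      | add w w' _ _ h1 h2 => rw [map_add, h1, h2, add_zero]
      | smul c w _ h1 => rw [map_smul, h1, smul_zero]
    haveI : Subsingleton ((DerSch.stalkFunctor X' (i x)).obj (cokernel ψ)) :=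
      subsingleton_of_forall_eq 0 fun v => by obtain ⟨w, rfl⟩ := hl v; exact hl0 w
    exact ModuleCat.isZero_of_subsingleton _
  have hQ : CohB1.IsFT ((Scheme.Modules.pullback i).obj (cokernel ψ)) := by
    haveI : Epi ((Scheme.Modules.pullback i).map π) := inferInstance
    exact QCohLib.isFT_of_epi ((Scheme.Modules.pullback i).map π) h
  obtain ⟨O, hxO, hO⟩ := RelFlatLib.exists_isZero_nhd hQ
    (((ModuleCat.extendScalars.{u, u, u} (i.stalkMap x).hom).map_isZero hQx).of_iso
      ((KFlatLib.stalkPullIso i x).app (cokernel ψ)))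
  obtain ⟨O', rfl⟩ := exists_preimage i O
  let V : X'.Opens := U' ⊓ O'
  have hz : ∀ v : (V : Scheme.{u}), IsZero ((DerSch.stalkFunctor _ v).obj
      ((PerfLib.res V.ι).obj (cokernel ψ))) := fun v => by
    obtain ⟨y, hy⟩ := i.surjective (V.ι v)
    have hyO : y ∈ i ⁻¹ᵁ O' := show i y ∈ O' from hy ▸ v.2.2
    have hzy : IsZero ((DerSch.stalkFunctor X' (i y)).obj (cokernel ψ)) := by
      haveI := subsingleton_of_extend _ (stalkMap_surjective' i y) (hn y) _
        ((hO y hyO).of_iso ((KFlatLib.stalkPullIso i y).app (cokernel ψ)).symm)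
      exact ModuleCat.isZero_of_subsingleton _
    rw [hy] at hzy
    exact ((ModuleCat.extendScalars.{u, u, u} (V.ι.stalkMap v).hom).map_isZero hzy).of_iso
      ((RelFlatLib.stalkResExt V.ι v).app _)
  have hQ0 : IsZero ((PerfLib.res V.ι).obj (cokernel ψ)) := (KFlatLib.isZero_iff_forall_stalk _).2 hz
  haveI : Epi ((PerfLib.res V.ι).map ψ) :=
    Preadditive.epi_of_isZero_cokernel _ (hQ0.of_iso (PreservesCokernel.iso (PerfLib.res V.ι) ψ).symm)
  -- the source is free on `U'`
  haveI := KFlatLib.isIso_pullback_resFree U' n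
  let Φ := Scheme.Modules.pullback U'.ι
  let η := Scheme.Modules.restrictFunctorIsoPullback U'.ι
  let e : (PerfLib.res U'.ι).obj (∐ fun _ : Fin n => KFlatLib.freeU U') ≅
      (PerfLib.res U'.ι).obj (FlatMod.freeMod X' n) :=
    η.app _ ≪≫ asIso (Φ.map (KFlatLib.resFree U' n)) ≪≫ (η.app _).symm
  let j := X'.homOfLE (inf_le_left : V ≤ U')
  have hj : j ≫ U'.ι = V.ι := X'.homOfLE_ι _
  refine ⟨V, V.ι, inferInstance, ⟨i x, hxU', hxO⟩, rfl, _, (PerfLib.res V.ι).map ψ, inferInstance, ?_⟩
  refine PerfLib.FPFree.of_iso (Scheme.Modules.restrictFunctorCongr hj |>.app _) ?_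
  refine PerfLib.FPFree.of_iso ((Scheme.Modules.restrictFunctorComp j U'.ι).symm.app _) ?_
  refine PerfLib.FPFree.res j (PerfLib.FPFree.of_iso e.symm ?_)
  have hF := PerfLib.isFinFree_res U'.ι (V := (U' : Scheme.{u})) (M := FlatMod.freeMod X' n) ⟨n, ⟨Iso.refl _⟩⟩
  exact (PerfLib.FPFree.of_retract (0 : (PerfLib.res U'.ι).obj (FlatMod.freeMod X' n) ⟶ _) (𝟙 _) (𝟙 _)
    (Category.id_comp _) hF hF).of_iso cokernelZeroIsoTarget

end ThickPCLib
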