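import Groth.Agent.ThickPCLib.Main
import Groth.Agent.ImmPCLib.Bounded

/-!
# The descending induction
-/

set_option autoImplicit false
set_option linter.style.haveILetI false
set_option backward.isDefEq.respectTransparency false
set_option backward.isDefEq.respectTransparency.types false
set_option maxHeartbeats 1000000

noncomputable section

universe u

open CategoryTheory CategoryTheory.Limits CategoryTheory.Pretriangulated AlgebraicGeometry TopologicalSpace Opposite
open HomologicalComplex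
open Groth.Agent
open Groth.Agent.PerfLib (resD resDQIso isPC_of_iso)
attribute [local instance] HasDerivedCategory.standard

namespace ThickPCLib

/-- A right exact functor commutes with the top cohomology. -/
theorem nonempty_topHomologyIso {C D : Type*} [Category* C] [Category* D] [Abelian C] [Abelian D] (F : C ⥤ D)
    [F.Additive] [PreservesFiniteColimits F] (K : CochainComplex C ℤ) (n : ℤ) (h : IsZero (K.X (n + 1))) :
    Nonempty (((F.mapHomologicalComplex (ComplexShape.up ℤ)).obj K).homology n ≅ F.obj (K.homology n)) := by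
  let K' := (F.mapHomologicalComplex (ComplexShape.up ℤ)).obj K
  haveI := K.isIso_homologyι n (n + 1) (by simp) (h.eq_of_tgt _ _)
  haveI := K'.isIso_homologyι n (n + 1) (by simp) ((F.map_isZero h).eq_of_tgt _ _)
  let c := K.opcyclesIsCokernel (n - 1) n (by simp)
  exact ⟨asIso (K'.homologyι n) ≪≫
    (K'.opcyclesIsCokernel (n - 1) n (by simp)).coconePointUniqueUpToIso
      (CokernelCofork.mapIsColimit _ c F) ≪≫ F.mapIso (asIso (K.homologyι n)).symm⟩

theorem isPC_inD_of_pos {X : Scheme.{u}} {k : ℤ} (hk : 0 < k) (M : X.Modules) :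
    DCoh.IsPseudoCoherentD k (DCoh.inD X M) :=
  PerfLib.isPC_of_isZero_above fun j hj =>
    DerivedCategory.isZero_of_isLE ((DerivedCategory.singleFunctor X.Modules 0).obj M) 0 j (by omega)

variable {X X' : Scheme.{u}}

/-- One step of the induction. -/
theorem step (i : X ⟶ X') [IsClosedImmersion i] [Surjective i]
    (hn : ∀ x : X, IsNilpotent (RingHom.ker (i.stalkMap x).hom)) [DCoh.HasLpull i] {n : ℤ} (C : DCoh.D X')
    (hC : ∀ j, n < j → IsZero (DCoh.HD C j)) (h : DCoh.IsPseudoCoherentD n ((DCoh.Lpull i).obj C)) :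
    DCoh.IsPseudoCoherentD n C := by
  have : C.IsLE n := (DerivedCategory.isLE_iff C n).mpr hC
  obtain ⟨C₀, hC₀, ⟨e⟩⟩ := DerivedCategory.exists_iso_Q_obj_of_isLE C n
  obtain ⟨L, α, hLb, hLf, hα⟩ := KFlatLib.exists_flat_resolution C₀ n
    fun j hj => C₀.isZero_of_isStrictlyLE n j hj
  haveI : IsIso (DerivedCategory.Q.map α) := inferInstance
  let eL : DCoh.toD X' L ≅ C := asIso (DerivedCategory.Q.map α) ≪≫ e.symm
  let eP : DCoh.toD X ((KFlatLib.pullCx i).obj L) ≅ (DCoh.Lpull i).obj C :=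
    (KFlatLib.lpullObjIso i L (KFlatLib.isKFlat_of_bounded_flat_mod L n hLb hLf)).symm ≪≫
      (DCoh.Lpull i).mapIso eL
  have hft := PerfLib.isFT_HD_top h fun j hj =>
    KFlatLib.isZero_HD_lpull i C (n + 1) (fun l hl => hC l (by omega)) j (by omega)
  obtain ⟨e'⟩ := nonempty_topHomologyIso (Scheme.Modules.pullback i) L n (hLb _ (by omega))
  have hH : CohB1.IsFT (DCoh.HD C n) := by
    refine isFT_of_pullback i hn _ ?_
    let ee : DCoh.HD ((DCoh.Lpull i).obj C) n ≅ (Scheme.Modules.pullback i).obj (DCoh.HD C n) :=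
      (DerivedCategory.homologyFunctor _ n).mapIso eP.symm ≪≫
        (DerivedCategory.homologyFunctorFactors X.Modules n).app _ ≪≫ e' ≪≫
        (Scheme.Modules.pullback i).mapIso (((DerivedCategory.homologyFunctorFactors X'.Modules n).app L).symm ≪≫
          (DerivedCategory.homologyFunctor _ n).mapIso eL)
    exact QCohLib.isFT_of_epi ee.hom hft
  refine RelPCSchLib.isPC_of_homology n 1 C (fun j hj => hC j (by omega)) fun j => ?_
  rcases lt_trichotomy j n with hj | rfl | hj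
  · exact isPC_inD_of_pos (by omega) _
  · rw [sub_self]
    exact PerfLib.isPC_zero_of_isFT hH
  · exact PerfLib.isPC_of_isZero_above fun l _ => (DerivedCategory.homologyFunctor _ l).map_isZero
      ((DerivedCategory.singleFunctor _ 0).map_isZero (hC j hj))

theorem isPC_of_strictlyPerfect {W : Scheme.{u}} {E : CochainComplex W.Modules ℤ}
    (hE : DCoh.IsStrictlyPerfect E) (m : ℤ) : DCoh.IsPseudoCoherentD m (DCoh.toD W E) :=
  (PerfLib.isPC_iff m _).2 fun x => ⟨W, 𝟙 W, inferInstance, x, rfl, _, (resDQIso (𝟙 W) E).inv,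
    PerfLib.isStrictlyPerfect_res (𝟙 W) hE, PerfLib.IAE.of_isIso _ m⟩

/-- Nilpotent kernels restrict to opens. -/
theorem isNilpotent_ker_restrict (i : X ⟶ X') (hn : ∀ x : X, IsNilpotent (RingHom.ker (i.stalkMap x).hom))
    (V : X'.Opens) (x : (i ⁻¹ᵁ V : X.Opens).toScheme) :
    IsNilpotent (RingHom.ker ((i ∣_ V).stalkMap x).hom) := by
  let e := morphismRestrictStalkMap i V x
  let a := e.hom.left.hom
  let b := e.hom.right.hom
  have w : (i.stalkMap x.1).hom.comp a = b.comp ((i ∣_ V).stalkMap x).hom := congrArg CommRingCat.Hom.hom e.hom.w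
  obtain ⟨k, hk⟩ := hn x.1
  refine ⟨k, (Submodule.eq_bot_iff _).2 fun s hs => ?_⟩
  have hle : (RingHom.ker ((i ∣_ V).stalkMap x).hom).map a ≤ RingHom.ker (i.stalkMap x.1).hom := by
    refine Ideal.map_le_iff_le_comap.2 fun t ht => ?_
    exact ((RingHom.congr_fun w t).trans ((congrArg b (RingHom.mem_ker.1 ht)).trans (map_zero b)))
  have h0 : a s = 0 := by
    have h1 := Ideal.mem_map_of_mem a hs
    rw [Ideal.map_pow] at h1
    have h2 := Ideal.pow_right_mono hle k h1
    rwa [hk] at h2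
  haveI : IsIso e.hom.left := inferInstance
  exact ((ConcreteCategory.bijective_of_isIso e.hom.left).1 (h0.trans (map_zero a).symm))

theorem isPC_restrict_lpull (i : X ⟶ X') [DCoh.HasLpull i] (V : X'.Opens) [DCoh.HasLpull (i ∣_ V)]
    (P : CochainComplex X'.Modules ℤ) (hP : DCoh.IsKFlat P) (m : ℤ)
    (h : DCoh.IsPseudoCoherentD m ((DCoh.Lpull i).obj (DCoh.toD X' P))) :
    DCoh.IsPseudoCoherentD m ((DCoh.Lpull (i ∣_ V)).obj (DCoh.toD _ ((DCoh.restrictCx V).obj P))) := by
  obtain ⟨F, eF⟩ : ∃ F : CochainComplex X.Modules ℤ, Nonempty (DCoh.toD X F ≅ (DCoh.Lpull i).obj (DCoh.toD X' P)) :=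
    ⟨_, ⟨DerivedCategory.Q.objObjPreimageIso _⟩⟩
  obtain ⟨eF⟩ := eF
  exact isPC_of_iso ((resDQIso (i ⁻¹ᵁ V).ι F) ≪≫ KFlatLib.restrictLpullIso i V F P hP eF)
    (PerfLib.isPC_res (isPC_of_iso eF.symm h) (i ⁻¹ᵁ V).ι)

/-- Descending induction from a bound. -/
theorem isPC_of_bound (i : X ⟶ X') [IsClosedImmersion i] [Surjective i]
    (hn : ∀ x : X, IsNilpotent (RingHom.ker (i.stalkMap x).hom)) [DCoh.HasLpull i] (K : DCoh.D X') (b : ℤ)
    (hb : ∀ j, b < j → IsZero (DCoh.HD K j)) (h : ∀ m, DCoh.IsPseudoCoherentD m ((DCoh.Lpull i).obj K))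
    (m : ℤ) : DCoh.IsPseudoCoherentD m K := by
  suffices ∀ k : ℕ, DCoh.IsPseudoCoherentD (b + 1 - k) K by
    exact PerfLib.isPC_mono (by have := Int.self_le_toNat (b + 1 - m); omega) (this (b + 1 - m).toNat)
  intro k
  induction k with
  | zero => exact PerfLib.isPC_of_isZero_above fun j hj => hb j (by omega)
  | succ k ih =>
    obtain ⟨n, hn1, hn2⟩ : ∃ n, b + 1 - (k : ℤ) = n + 1 ∧ b + 1 - ((k + 1 : ℕ) : ℤ) = n :=
      ⟨b - k, by omega, by push_cast; omega⟩
    rw [hn1] at ih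
    rw [hn2]
    obtain ⟨P, hP, ⟨eP⟩⟩ := KFlatLib.exists_good_rep K
    refine PerfLib.isPC_local fun x' => ?_
    obtain ⟨V, hxV, hV⟩ := ih x'
    obtain ⟨E, α, hE, hα₁, hα₂⟩ := hV P ⟨eP⟩
    haveI := KFlatLib.hasLpull (i ∣_ V)
    haveI : Surjective (i ∣_ V) := IsZariskiLocalAtTarget.restrict ‹Surjective i› V
    refine ⟨V, V.ι, inferInstance, ⟨x', hxV⟩, rfl, ?_⟩
    refine isPC_of_iso ((resDQIso V.ι P).symm ≪≫ (resD V.ι).mapIso eP) ?_
    obtain ⟨C, p, q, hT⟩ := distinguished_cocone_triangle α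
    have hC := (KFlatLib.isoAboveEpiAt_iff _ hT (n + 1)).1 ⟨hα₁, hα₂⟩
    obtain ⟨P₁, Q₁, φ, hP₁, hQ₁, ⟨e⟩⟩ := KFlatLib.exists_kFlat_triangle _ hT
    let φ' := (KFlatLib.pullCx (i ∣_ V)).map φ
    let T' := DerivedCategory.Q.mapTriangle.obj (CochainComplex.mappingCone.triangle φ')
    have hT' : T' ∈ distTriang (DCoh.D _) := DerivedCategory.mappingCone_triangle_distinguished _
    have h₃ : DCoh.IsPseudoCoherentD n T'.obj₃ := by
      refine PerfLib.isPC_obj₃ T' hT' n ?_ ?_
      · exact isPC_of_iso ((DCoh.Lpull (i ∣_ V)).mapIso (Triangle.π₁.mapIso e).symm ≪≫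
          KFlatLib.lpullObjIso (i ∣_ V) P₁ hP₁)
          (KFlatLib.isPseudoCoherent_lpull (i ∣_ V) _ _ (isPC_of_strictlyPerfect hE _))
      · exact isPC_of_iso ((DCoh.Lpull (i ∣_ V)).mapIso (Triangle.π₂.mapIso e).symm ≪≫
          KFlatLib.lpullObjIso (i ∣_ V) Q₁ hQ₁)
          (isPC_restrict_lpull i V P hP.1 n (isPC_of_iso ((DCoh.Lpull i).mapIso eP.symm) (h n)))
    have hstep : DCoh.IsPseudoCoherentD n C :=
      step (i ∣_ V) (isNilpotent_ker_restrict i hn V) C (fun j hj => hC j (by omega))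
        (isPC_of_iso (DerivedCategory.Q.mapIso
          (CochainComplex.mappingCone.mapHomologicalComplexIso φ (Scheme.Modules.pullback (i ∣_ V))).symm ≪≫
            (KFlatLib.lpullObjIso (i ∣_ V) (CochainComplex.mappingCone φ)
              (KFlatLib.isKFlat_mappingCone_mod hP₁ hQ₁ φ)).symm ≪≫
              (DCoh.Lpull (i ∣_ V)).mapIso (Triangle.π₃.mapIso e)) h₃)
    exact PerfLib.isPC_obj₂ _ hT n (isPC_of_strictlyPerfect hE n) hstep

theorem isZero_stalk_of_res {W : Scheme.{u}} (j : W ⟶ X) [IsOpenImmersion j] (v : W) {M : X.Modules}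
    (h : IsZero ((DerSch.stalkFunctor W v).obj ((PerfLib.res j).obj M))) :
    IsZero ((DerSch.stalkFunctor X (j v)).obj M) := by
  haveI := RelFlatLib.isEquivalence_extend_stalk j v
  let G := ModuleCat.extendScalars.{u, u, u} (j.stalkMap v).hom
  have h1 : IsZero (G.obj ((DerSch.stalkFunctor X (j v)).obj M)) :=
    h.of_iso ((RelFlatLib.stalkResExt j v).app M).symm
  rw [IsZero.iff_id_eq_zero]
  exact G.map_injective (h1.eq_of_src _ _)

/-- Pseudo-coherence descends along a surjective closed immersion with nilpotent kernels on stalks. -/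
theorem isPC_of_lpull (i : X ⟶ X') [IsClosedImmersion i] [Surjective i]
    (hn : ∀ x : X, IsNilpotent (RingHom.ker (i.stalkMap x).hom)) [DCoh.HasLpull i] (K : DCoh.D X')
    (h : ∀ m, DCoh.IsPseudoCoherentD m ((DCoh.Lpull i).obj K)) (m : ℤ) : DCoh.IsPseudoCoherentD m K := by
  refine PerfLib.isPC_local fun x' => ?_
  obtain ⟨x, rfl⟩ := i.surjective x'
  obtain ⟨P, hP, ⟨eP⟩⟩ := KFlatLib.exists_good_rep K
  have h0 := isPC_of_iso ((DCoh.Lpull i).mapIso eP.symm ≪≫ KFlatLib.lpullObjIso i P hP.1) (h 0)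
  obtain ⟨W, hxW, b, hb⟩ := ImmPCLib.exists_bound h0 x
  obtain ⟨W', rfl⟩ := exists_preimage i W
  haveI := KFlatLib.hasLpull (i ∣_ W')
  haveI : Surjective (i ∣_ W') := IsZariskiLocalAtTarget.restrict ‹Surjective i› W'
  refine ⟨W', W'.ι, inferInstance, ⟨i x, hxW⟩, rfl, ?_⟩
  refine isPC_of_iso ((resDQIso W'.ι P).symm ≪≫ (resD W'.ι).mapIso eP) ?_
  refine isPC_of_bound (i ∣_ W') (isNilpotent_ker_restrict i hn W') _ b (fun j hj => ?_)
    (fun k => isPC_restrict_lpull i W' P hP.1 k (isPC_of_iso ((DCoh.Lpull i).mapIso eP.symm) (h k))) m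
  refine ((KFlatLib.isZero_iff_forall_stalk _).2 fun v => ?_).of_iso
    ((DerivedCategory.homologyFunctor _ j).mapIso (resDQIso W'.ι P).symm ≪≫
      PerfLib.resHDIso W'.ι (DCoh.toD X' P) j ≪≫
      (PerfLib.res W'.ι).mapIso ((DerivedCategory.homologyFunctorFactors X'.Modules j).app P))
  obtain ⟨y, hy⟩ := i.surjective (W'.ι v)
  have hyW : y ∈ i ⁻¹ᵁ W' := show i y ∈ W' from hy ▸ v.2
  have hz : ∀ l, b < l → IsZero (((DRingLib.extCx (i.stalkMap y).hom).obj
      ((KFlatLib.stalkCx X' (i y)).obj P)).homology l) := fun l hl => by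
    have h1 : IsZero ((DerSch.stalkFunctor _ (⟨y, hyW⟩ : (i ⁻¹ᵁ W' : X.Opens).toScheme)).obj
        ((PerfLib.res (i ⁻¹ᵁ W').ι).obj (((KFlatLib.pullCx i).obj P).homology l))) :=
      ((DerSch.stalkFunctor _ _).map_isZero (hb l hl)).of_iso
        ((DerSch.stalkFunctor _ _).mapIso ((PerfLib.res (i ⁻¹ᵁ W').ι).mapIso
          ((DerivedCategory.homologyFunctorFactors X.Modules l).app _).symm ≪≫
            (PerfLib.resHDIso (i ⁻¹ᵁ W').ι (DCoh.toD X ((KFlatLib.pullCx i).obj P)) l).symm))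
    exact ((isZero_stalk_of_res _ _ h1).of_iso (KFlatLib.stalkHomologyIso _ y l)).of_iso
      ((homologyFunctor _ _ l).mapIso (KFlatLib.stalkPullCxIso i y P).symm)
  have h2 : IsZero (((KFlatLib.stalkCx X' (i y)).obj P).homology j) :=
    isZero_homology_of_extCx _ (stalkMap_surjective' i y) (hn y) _ (KFlatLib.stalks_isKFlat hP.1 (i y))
      (fun l => hP.2 l (i y)) b hz j hj
  have h3 : IsZero ((DerSch.stalkFunctor X' (W'.ι v)).obj (P.homology j)) :=
    hy ▸ h2.of_iso (KFlatLib.stalkHomologyIso P (i y) j).symm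
  exact ((ModuleCat.extendScalars.{u, u, u} (W'.ι.stalkMap v).hom).map_isZero h3).of_iso
    ((RelFlatLib.stalkResExt W'.ι v).app _)

end ThickPCLib
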