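import Groth.Agent.TwoTermLib.Nil
import Groth.Agent.DRingLib.Amplitude
import Groth.Agent.DRingLib.AmplitudeTri
import Groth.Agent.PQLib.Derived

/-!
# Detection along a nilpotent ideal
-/

set_option autoImplicit false
set_option linter.style.haveILetI false
set_option backward.isDefEq.respectTransparency false
set_option backward.isDefEq.respectTransparency.types false

noncomputable section

universe u

open CategoryTheory CategoryTheory.Limits TensorProduct
open Groth.Agent
attribute [local instance] HasDerivedCategory.standard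

namespace ThickPCLib

variable {A B : Type u} [CommRing A] [CommRing B] (φ : A →+* B)

/-- An element vanishing in the base change lies in the kernel times the module. -/
theorem mem_smul_of_one_tmul (hφ : Function.Surjective φ) (M : Type u) [AddCommGroup M] [Module A M] (x : M)
    (hx : letI := φ.toAlgebra; (1 : B) ⊗ₜ[A] x = 0) : x ∈ RingHom.ker φ • (⊤ : Submodule A M) := by
  letI := φ.toAlgebra
  let e : (A ⧸ RingHom.ker φ) ≃ₗ[A] B :=
    (Ideal.quotientKerAlgEquivOfSurjective (f := Algebra.ofId A B) hφ).toLinearEquiv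
  have h2 : TensorProduct.quotTensorEquivQuotSMul M (RingHom.ker φ) ((1 : A ⧸ RingHom.ker φ) ⊗ₜ x) = 0 := by
    have h3 : e.rTensor M ((1 : A ⧸ RingHom.ker φ) ⊗ₜ x) = 0 := by
      rw [LinearEquiv.rTensor_tmul, show e 1 = 1 from map_one (Ideal.quotientKerAlgEquivOfSurjective (f := Algebra.ofId A B) hφ), hx]
    rw [(LinearEquiv.map_eq_zero_iff _).1 h3, map_zero]
  rw [← map_one (Ideal.Quotient.mk (RingHom.ker φ)),
    TensorProduct.quotTensorEquivQuotSMul_mk_tmul, one_smul] at h2
  exact (Submodule.Quotient.mk_eq_zero _).1 h2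

theorem subsingleton_of_extend (hφ : Function.Surjective φ) (hnil : IsNilpotent (RingHom.ker φ))
    (M : ModuleCat.{u} A) (h : IsZero ((ModuleCat.extendScalars.{u, u, u} φ).obj M)) : Subsingleton M := by
  letI := φ.toAlgebra
  haveI := ModuleCat.subsingleton_of_isZero h
  have hbot := TwoTermLib.Nil.eq_top_of_nil hnil (⊥ : Submodule A M) fun x _ => by
    refine Submodule.mem_sup_right (mem_smul_of_one_tmul φ hφ M x ?_)
    exact Subsingleton.elim (α := (ModuleCat.extendScalars.{u, u, u} φ).obj M) _ _
  exact Submodule.subsingleton_iff A |>.1 (subsingleton_of_bot_eq_top hbot)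

theorem finite_of_extend (hφ : Function.Surjective φ) (hnil : IsNilpotent (RingHom.ker φ))
    (M : ModuleCat.{u} A) (h : Module.Finite B ((ModuleCat.extendScalars.{u, u, u} φ).obj M)) :
    Module.Finite A M := by
  classical
  letI := φ.toAlgebra
  haveI : Module.Finite B (B ⊗[A] M) := h
  obtain ⟨k, v, hv⟩ := Module.Finite.exists_fin (R := B) (M := B ⊗[A] M)
  choose w hw using fun j => TensorProduct.mk_surjective A M B hφ (v j)
  refine ⟨⟨Finset.univ.image w, ?_⟩⟩
  refine TwoTermLib.Nil.eq_top_of_nil hnil _ fun x _ => ?_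
  obtain ⟨c, hc⟩ := (Submodule.mem_span_range_iff_exists_fun B).1
    (hv.symm ▸ Submodule.mem_top : ((1 : B) ⊗ₜ[A] x) ∈ Submodule.span B (Set.range v))
  choose a ha using fun j => hφ (c j)
  have hx : (1 : B) ⊗ₜ[A] (x - ∑ j, a j • w j) = 0 := by
    rw [TensorProduct.tmul_sub, TensorProduct.tmul_sum, sub_eq_zero, ← hc]
    refine Finset.sum_congr rfl fun j _ => ?_
    rw [TensorProduct.tmul_smul, show (1 : B) ⊗ₜ[A] w j = v j from hw j, ← ha j]
    exact (algebraMap_smul B (a j) (v j))
  rw [Submodule.mem_sup]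
  refine ⟨∑ j, a j • w j, ?_, x - ∑ j, a j • w j, mem_smul_of_one_tmul φ hφ M _ hx, by abel⟩
  exact Submodule.sum_mem _ fun j _ => Submodule.smul_mem _ _ (Submodule.subset_span (by simp))

/-- Homology vanishing above a degree is detected after base change along a nilpotent kernel. -/
theorem isZero_homology_of_extCx (hφ : Function.Surjective φ) (hnil : IsNilpotent (RingHom.ker φ))
    (C : CochainComplex (ModuleCat.{u} A) ℤ) (hC : DRing.IsKFlat A C) (hflat : ∀ n, Module.Flat A (C.X n))
    (b : ℤ) (h : ∀ i, b < i → IsZero (((DRingLib.extCx φ).obj C).homology i)) (i : ℤ) (hi : b < i) :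
    IsZero (C.homology i) := by
  have hCB : DRing.IsKFlat B ((DRingLib.extCx φ).obj C) := KFlatLib.isKFlat_extend φ hC
  obtain ⟨P, hPb, hPf, ⟨eP⟩⟩ := DRingLib.exists_free_rep
    (DerivedCategory.Q.obj ((DRingLib.extCx φ).obj C)) b fun j hj => DRingLib.isZero_Hn_of_homology (h j hj)
  haveI := DRingLib.isKProjective_of_free P b hPb hPf
  obtain ⟨g, hg⟩ := DRingLib.exists_qis_of_iso P ((DRingLib.extCx φ).obj C) eP
  have h1 : ∀ N : ModuleCat.{u} B, IsZero ((KFlatLib.tensorN ((DRingLib.extCx φ).obj C) N).homology i) := by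
    intro N
    have hq := DRingLib.quasiIso_tensorN g (DRingLib.isKFlat_of_free P b hPb hPf) hCB N
    haveI : IsIso (HomologicalComplex.homologyMap ((DRingLib.tensorNF N).map g) i) :=
      (quasiIsoAt_iff_isIso_homologyMap _ _).mp (hq.quasiIsoAt i)
    have hz : IsZero (((DRingLib.tensorNF N).obj P).X i) :=
      (MonoidalCategory.tensorRight N).map_isZero (hPb i hi)
    exact ((HomologicalComplex.exactAt_iff_isZero_homology
      ((DRingLib.tensorNF N).obj P) i).mp (ShortComplex.exact_of_isZero_X₂ _ hz)).of_iso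
        (asIso (HomologicalComplex.homologyMap ((DRingLib.tensorNF N).map g) i)).symm
  let eC : KFlatLib.tensorN C (MonoidalCategoryStruct.tensorUnit (ModuleCat.{u} A)) ≅ C :=
    HomologicalComplex.Hom.isoOfComponents (fun n => MonoidalCategory.rightUnitor (C.X n))
      (fun p q _ => (MonoidalCategory.rightUnitor_naturality (C.d p q)).symm)
  exact (TwoTermLib.Nil.isZero_tensorN_of_extCx φ hφ hnil C hflat i h1 A).of_iso
    ((HomologicalComplex.homologyFunctor _ _ i).mapIso eC.symm)

end ThickPCLib
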